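import Mathlib.RingTheory.Finiteness.Basic
import Mathlib.LinearAlgebra.LinearIndependent.Lemmas
import Mathlib.LinearAlgebra.Basis.Basic
import Mathlib.Algebra.Module.Torsion.Free

/-! A finite torsion-free module over a domain embeds into a finite free module. -/

set_option autoImplicit false

namespace Groth.Agent.TFEmb

theorem exists_injective {R M : Type*} [CommRing R] [IsDomain R] [AddCommGroup M] [Module R M]
    [Module.Finite R M] [Module.IsTorsionFree R M] :
    ∃ (n : ℕ) (f : M →ₗ[R] (Fin n → R)), Function.Injective f := by
  classical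
  obtain ⟨S, hS⟩ := (Module.Finite.fg_top : (⊤ : Submodule R M).FG)
  have hne : (S.powerset.filter fun T : Finset M => LinearIndepOn R id (T : Set M)).Nonempty :=
    ⟨∅, Finset.mem_filter.2 ⟨Finset.empty_mem_powerset _, by simp⟩⟩
  obtain ⟨T, hT, hmax⟩ := Finset.exists_max_image _ Finset.card hne
  obtain ⟨hTS, hTi⟩ := Finset.mem_filter.1 hT
  have hdep : ∀ g ∈ S, ∃ c : R, c ≠ 0 ∧ c • g ∈ Submodule.span R (T : Set M) := by
    intro g hg
    by_cases hgT : g ∈ T
    · exact ⟨1, one_ne_zero, by rw [one_smul]; exact Submodule.subset_span (Finset.mem_coe.2 hgT)⟩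
    by_contra! hno
    have hins : LinearIndepOn R id ((insert g T : Finset M) : Set M) := by
      rw [linearIndepOn_finset_iff]
      intro a ha i hi
      rw [Finset.sum_insert hgT] at ha
      have hag : a g = 0 := by
        by_contra hne'
        refine hno (a g) hne' ?_
        rw [show a g • g = -∑ x ∈ T, a x • x from eq_neg_of_add_eq_zero_left ha]
        exact neg_mem (sum_mem fun x hx => Submodule.smul_mem _ _ (Submodule.subset_span (Finset.mem_coe.2 hx)))
      rcases Finset.mem_insert.1 hi with rfl | hi
      · exact hag
      · simp only [id, hag, zero_smul, zero_add] at ha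
        exact linearIndepOn_finset_iff.1 hTi a ha i hi
    have := hmax _ (Finset.mem_filter.2 ⟨Finset.mem_powerset.2 (Finset.insert_subset hg (Finset.mem_powerset.1 hTS)), hins⟩)
    rw [Finset.card_insert_of_notMem hgT] at this
    omega
  choose! c hc0 hc using hdep
  let C := ∏ g ∈ S, c g
  have hC : C ≠ 0 := Finset.prod_ne_zero_iff.2 hc0
  have hall : ∀ x : M, C • x ∈ Submodule.span R (T : Set M) := fun x => by
    have hx : x ∈ Submodule.span R (S : Set M) := hS.symm ▸ Submodule.mem_top
    have hle : Submodule.span R (S : Set M) ≤ (Submodule.span R (T : Set M)).comap (C • LinearMap.id) := by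
      refine Submodule.span_le.2 fun g hg => ?_
      obtain ⟨d, hd⟩ := Finset.dvd_prod_of_mem c hg
      show C • g ∈ Submodule.span R (T : Set M)
      rw [show C = d * c g from hd.trans (mul_comm _ _), mul_smul]
      exact Submodule.smul_mem _ _ (hc g hg)
    exact hle hx
  let φ : M →ₗ[R] Submodule.span R (T : Set M) := (C • LinearMap.id).codRestrict _ hall
  have hφ : Function.Injective φ := fun x y h => smul_right_injective M hC (congrArg Subtype.val h)
  have b : Module.Basis (T : Set M) R (Submodule.span R (T : Set M)) :=
    (Module.Basis.span hTi.linearIndependent).map (LinearEquiv.ofEq _ _ (by simp [Subtype.range_coe]))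
  refine ⟨T.card, (b.reindex T.equivFin).equivFun.toLinearMap.comp φ, ?_⟩
  exact (b.reindex T.equivFin).equivFun.injective.comp hφ

end Groth.Agent.TFEmb
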